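import Groth.Agent.H19Grp.PointLift

/-!
# Points of torsors under affine group schemes, in coalgebra form

`R` is the coordinate ring of a torsor under the affine group with Hopf algebra `O`; over an algebraically
closed field it has a rational point, by Zorn's lemma on the quotient torsors of the Hopf subalgebras.
-/

set_option autoImplicit false
set_option linter.style.haveILetI false
set_option linter.unusedSectionVars false
universe u

open TensorProduct

namespace Groth.Agent.H02CA.TorsorPt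

open H20FF (IsHopfSub)

variable {k : Type u} [Field k] {O : Type u} [CommRing O] [HopfAlgebra k O] {R : Type u} [CommRing R]
  [Algebra k R]

/-- The elements of `O ⊗ R` with coefficients in a subalgebra. -/
noncomputable def rng (C : Subalgebra k O) : Subalgebra k (O ⊗[k] R) :=
  (Algebra.TensorProduct.map C.val (AlgHom.id k R)).range

/-- The elements of `R ⊗ R` with coefficients in a subalgebra. -/
noncomputable def rngR (S : Subalgebra k R) : Subalgebra k (R ⊗[k] R) :=
  (Algebra.TensorProduct.map S.val (AlgHom.id k R)).range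

theorem tmul_mem_range {A B : Type u} [CommRing A] [Algebra k A] [CommRing B] [Algebra k B]
    {C : Subalgebra k A} {a : A} (ha : a ∈ C) (b : B) :
    a ⊗ₜ[k] b ∈ (Algebra.TensorProduct.map C.val (AlgHom.id k B)).range :=
  ⟨(⟨a, ha⟩ : C) ⊗ₜ b, rfl⟩

theorem range_map_mono {A B : Type u} [CommRing A] [Algebra k A] [CommRing B] [Algebra k B]
    {C D : Subalgebra k A} (h : C ≤ D) :
    (Algebra.TensorProduct.map C.val (AlgHom.id k B)).range ≤
      (Algebra.TensorProduct.map D.val (AlgHom.id k B)).range := by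
  rintro _ ⟨z, rfl⟩
  induction z using TensorProduct.induction_on with
  | zero => simp
  | tmul c b => exact tmul_mem_range (h c.2) b
  | add x y hx hy => simp only [AlgHom.toRingHom_eq_coe, RingHom.coe_coe, map_add]; exact add_mem hx hy

theorem mem_of_tmul_one [Nontrivial R] {A : Type u} [CommRing A] [Algebra k A] {C : Subalgebra k A} {a : A}
    (ha : a ⊗ₜ[k] (1 : R) ∈ (Algebra.TensorProduct.map C.val (AlgHom.id k R)).range) : a ∈ C := by
  obtain ⟨φ, hφ⟩ := Module.Projective.exists_dual_eq_one k (one_ne_zero (α := R))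
  obtain ⟨z, hz⟩ := ha
  have h : ∀ z : C ⊗[k] R, TensorProduct.rid k A (TensorProduct.map LinearMap.id φ
      (Algebra.TensorProduct.map C.val (AlgHom.id k R) z)) ∈ C := by
    intro z
    induction z using TensorProduct.induction_on with
    | zero => simp
    | tmul c b => simpa using C.smul_mem c.2 (φ b)
    | add x y hx hy => rw [map_add, map_add, map_add]; exact add_mem hx hy
  have h1 := h z
  rw [show Algebra.TensorProduct.map C.val (AlgHom.id k R) z = a ⊗ₜ[k] (1 : R) from hz] at h1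
  simpa [hφ] using h1

section

variable (ρ : R →ₐ[k] O ⊗[k] R)

/-- The comparison map of the torsor. -/
noncomputable def theta : R ⊗[k] R →ₐ[k] O ⊗[k] R :=
  Algebra.TensorProduct.productMap ρ Algebra.TensorProduct.includeRight

theorem theta_tmul (r s : R) : theta ρ (r ⊗ₜ s) = ρ r * ((1 : O) ⊗ₜ[k] s) :=
  Algebra.TensorProduct.productMap_apply_tmul _ _ r s

/-- The coordinate ring of the quotient torsor of a Hopf subalgebra. -/
noncomputable def rc (C : Subalgebra k O) : Subalgebra k R := (rng C).comap ρ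

theorem rc_mono {C D : Subalgebra k O} (h : C ≤ D) : rc ρ C ≤ rc ρ D := fun _ hr => range_map_mono h hr

theorem theta_mem {C : Subalgebra k O} {x : R ⊗[k] R} (hx : x ∈ rngR (rc ρ C)) : theta ρ x ∈ rng C := by
  obtain ⟨z, rfl⟩ := hx
  induction z using TensorProduct.induction_on with
  | zero => simp
  | tmul r s =>
    show theta ρ ((r : R) ⊗ₜ s) ∈ rng C
    rw [theta_tmul]
    exact mul_mem r.2 (tmul_mem_range (one_mem C) s)
  | add x y hx hy => simp only [AlgHom.toRingHom_eq_coe, RingHom.coe_coe, map_add] at hx hy ⊢; exact add_mem hx hy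

variable (hco : ∀ r : R, Algebra.TensorProduct.map (AlgHom.id k O) ρ (ρ r) =
    Algebra.TensorProduct.assoc k k k O O R
      (Algebra.TensorProduct.map (Bialgebra.comulAlgHom k O) (AlgHom.id k R) (ρ r)))
  (hθ : Function.Bijective (theta ρ))

include hco in
theorem coassoc_theta (x : R ⊗[k] R) :
    Algebra.TensorProduct.map (AlgHom.id k O) (theta ρ)
        (Algebra.TensorProduct.assoc k k k O R R (Algebra.TensorProduct.map ρ (AlgHom.id k R) x)) =
      Algebra.TensorProduct.assoc k k k O O R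
        (Algebra.TensorProduct.map (Bialgebra.comulAlgHom k O) (AlgHom.id k R) (theta ρ x)) := by
  induction x using TensorProduct.induction_on with
  | zero => simp
  | add x y hx hy => simp only [map_add, hx, hy]
  | tmul r s =>
    have e1 : Algebra.TensorProduct.map ρ (AlgHom.id k R) (r ⊗ₜ[k] s) =
        (ρ r ⊗ₜ[k] (1 : R)) * ((1 : O ⊗[k] R) ⊗ₜ[k] s) := by simp
    rw [theta_tmul, e1]
    simp only [map_mul]
    congr 1
    · rw [← hco r]
      induction ρ r using TensorProduct.induction_on with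
      | zero => simp
      | add a b ha hb => simp only [add_tmul, map_add, ha, hb]
      | tmul a b => simp [theta_tmul, ← Algebra.TensorProduct.one_def]
    · simp [Algebra.TensorProduct.one_def, theta_tmul]

include hco hθ in
theorem mem_rngR_of_theta_mem {C : Subalgebra k O} (hC : IsHopfSub C) {x : R ⊗[k] R} (hx : theta ρ x ∈ rng C) :
    x ∈ rngR (rc ρ C) := by
  let q := C.toSubmodule.mkQ
  let f : R →ₗ[k] (O ⧸ C.toSubmodule) ⊗[k] R := (q.rTensor R).comp ρ.toLinearMap
  have hker : Function.Exact (rc ρ C).toSubmodule.subtype f := by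
    intro r
    have h := (rTensor_exact R (LinearMap.exact_subtype_mkQ C.toSubmodule) (Submodule.mkQ_surjective _)) (ρ r)
    rw [show f r = q.rTensor R (ρ r) from rfl]
    constructor
    · intro hr
      exact ⟨⟨r, h.1 hr⟩, rfl⟩
    · rintro ⟨⟨r', hr'⟩, rfl⟩
      exact h.2 hr'
  have hex := Module.Flat.rTensor_exact R hker x
  refine hex.1 ?_
  let ei : R ⊗[k] R ≃ₐ[k] O ⊗[k] R := AlgEquiv.ofBijective (theta ρ) hθ
  let z := Algebra.TensorProduct.assoc k k k O R R (Algebra.TensorProduct.map ρ (AlgHom.id k R) x)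
  have hz : z = Algebra.TensorProduct.map (AlgHom.id k O) ei.symm.toAlgHom
      (Algebra.TensorProduct.assoc k k k O O R
        (Algebra.TensorProduct.map (Bialgebra.comulAlgHom k O) (AlgHom.id k R) (theta ρ x))) := by
    rw [← coassoc_theta ρ hco x]
    refine (fun w => ?_ : ∀ w : O ⊗[k] (R ⊗[k] R), w = Algebra.TensorProduct.map (AlgHom.id k O) ei.symm.toAlgHom
      (Algebra.TensorProduct.map (AlgHom.id k O) (theta ρ) w)) z
    induction w using TensorProduct.induction_on with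
    | zero => simp
    | add a b ha hb => simp only [map_add, ← ha, ← hb]
    | tmul a b =>
      simp only [Algebra.TensorProduct.map_tmul, AlgHom.id_apply]
      congr 1
      exact (ei.symm_apply_apply b).symm
  have hmap : TensorProduct.assoc k _ R R (f.rTensor R x) = q.rTensor (R ⊗[k] R) z := by
    refine (fun y => ?_ : ∀ y : R ⊗[k] R, TensorProduct.assoc k _ R R (f.rTensor R y) = q.rTensor (R ⊗[k] R)
      (Algebra.TensorProduct.assoc k k k O R R (Algebra.TensorProduct.map ρ (AlgHom.id k R) y))) x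
    induction y using TensorProduct.induction_on with
    | zero => simp
    | add a b ha hb => simp only [map_add, ha, hb]
    | tmul r s =>
      show TensorProduct.assoc k _ R R (q.rTensor R (ρ r) ⊗ₜ s) =
        q.rTensor (R ⊗[k] R) (Algebra.TensorProduct.assoc k k k O R R (ρ r ⊗ₜ[k] s))
      induction ρ r using TensorProduct.induction_on with
      | zero => simp
      | add a b ha hb => simp only [map_add, add_tmul, ha, hb]
      | tmul a b => simp
  rw [← (TensorProduct.assoc k _ R R).map_eq_zero_iff, hmap, hz]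
  obtain ⟨w, hw⟩ := hx
  rw [← hw]
  clear hw hz hmap z hex
  induction w using TensorProduct.induction_on with
  | zero => simp
  | add a b ha hb => simp only [AlgHom.toRingHom_eq_coe, RingHom.coe_coe, map_add] at ha hb ⊢; rw [ha, hb, add_zero]
  | tmul c r =>
    obtain ⟨t, ht⟩ := hC.1 c c.2
    simp only [AlgHom.toRingHom_eq_coe, RingHom.coe_coe, Algebra.TensorProduct.map_tmul, AlgHom.id_apply,
      Bialgebra.comulAlgHom_apply, Subalgebra.coe_val]
    rw [← ht]
    clear ht
    induction t using TensorProduct.induction_on with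
    | zero => simp
    | add a b ha hb => simp only [map_add, add_tmul, ha, hb, add_zero]
    | tmul a b =>
      have h0 : q (a : O) = 0 := (Submodule.Quotient.mk_eq_zero _).2 a.2
      simp [h0]

include hθ in
theorem rc_bot [Nontrivial R] : rc ρ (⊥ : Subalgebra k O) = ⊥ := by
  refine le_antisymm (fun r hr => ?_) bot_le
  obtain ⟨z, hz⟩ := hr
  have h : ∀ z : (⊥ : Subalgebra k O) ⊗[k] R, ∃ s : R,
      Algebra.TensorProduct.map (⊥ : Subalgebra k O).val (AlgHom.id k R) z = (1 : O) ⊗ₜ[k] s := by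
    intro z
    induction z using TensorProduct.induction_on with
    | zero => exact ⟨0, by simp⟩
    | tmul c b =>
      obtain ⟨a, ha⟩ := Algebra.mem_bot.1 c.2
      refine ⟨a • b, ?_⟩
      simp [← ha, Algebra.algebraMap_eq_smul_one, smul_tmul]
    | add x y hx hy =>
      obtain ⟨s, hs⟩ := hx
      obtain ⟨t, ht⟩ := hy
      exact ⟨s + t, by rw [map_add, hs, ht, tmul_add]⟩
  obtain ⟨s, hs⟩ := h z
  have he : r ⊗ₜ[k] (1 : R) = (1 : R) ⊗ₜ[k] s := hθ.1 (by
    rw [theta_tmul, theta_tmul, map_one, one_mul, ← Algebra.TensorProduct.one_def, mul_one]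
    exact hz.symm.trans hs)
  refine mem_of_tmul_one (R := R) ?_
  rw [he]
  exact tmul_mem_range (one_mem _) s

include hco hθ in
theorem le_of_rc_le [Nontrivial R] {C D : Subalgebra k O} (hC : IsHopfSub C) (h : rc ρ C ≤ rc ρ D) : C ≤ D := by
  intro c hc
  obtain ⟨x, hx⟩ := hθ.2 (c ⊗ₜ[k] (1 : R))
  refine mem_of_tmul_one (R := R) ?_
  rw [← hx]
  exact theta_mem ρ (range_map_mono h (mem_rngR_of_theta_mem ρ hco hθ hC (hx ▸ tmul_mem_range hc 1)))

include hco hθ in
/-- The coordinate ring of a quotient torsor is finitely generated over a smaller one. -/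
theorem exists_finset_rc_le [Nontrivial R] {C D₀ : Subalgebra k O} (hC : IsHopfSub C) (hD : IsHopfSub D₀)
    (hfg : D₀.FG) : ∃ F : Finset R, ↑F ⊆ (rc ρ (C ⊔ D₀) : Set R) ∧ rc ρ (C ⊔ D₀) ≤ rc ρ C ⊔ Algebra.adjoin k (F : Set R) := by
  classical
  obtain ⟨gen, hgen⟩ := hfg
  have hfin : ∀ (S : Subalgebra k R) (z : S ⊗[k] R), ∃ F : Finset R, ↑F ⊆ (S : Set R) ∧
      Algebra.TensorProduct.map S.val (AlgHom.id k R) z ∈ rngR (Algebra.adjoin k (F : Set R)) := by
    intro S z
    induction z using TensorProduct.induction_on with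
    | zero => exact ⟨∅, by simp, by simp⟩
    | tmul c b => exact ⟨{(c : R)}, by simp, tmul_mem_range (Algebra.subset_adjoin (by simp)) b⟩
    | add x y hx hy =>
      obtain ⟨F, hF, hFx⟩ := hx
      obtain ⟨F', hF', hFy⟩ := hy
      refine ⟨F ∪ F', by simp [hF, hF'], ?_⟩
      rw [map_add]
      exact add_mem (range_map_mono (Algebra.adjoin_mono (by simp)) hFx)
        (range_map_mono (Algebra.adjoin_mono (by simp)) hFy)
  have hDsub : IsHopfSub (C ⊔ D₀) := H19Grp.PointLift.isHopfSub_sup hC hD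
  have hd : ∀ d : gen, ∃ F : Finset R, ↑F ⊆ (rc ρ (C ⊔ D₀) : Set R) ∧
      ∃ x ∈ rngR (Algebra.adjoin k (F : Set R)), theta ρ x = (d : O) ⊗ₜ[k] (1 : R) := by
    intro d
    obtain ⟨x, hx⟩ := hθ.2 ((d : O) ⊗ₜ[k] (1 : R))
    have hm : (d : O) ∈ C ⊔ D₀ := le_sup_right (a := C) (hgen ▸ Algebra.subset_adjoin d.2)
    obtain ⟨z, hz⟩ := mem_rngR_of_theta_mem ρ hco hθ hDsub (hx ▸ tmul_mem_range hm 1 : theta ρ x ∈ rng (C ⊔ D₀))
    obtain ⟨F, hF, hFz⟩ := hfin _ z
    exact ⟨F, hF, x, hz ▸ hFz, hx⟩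
  choose F hF x hxF hx using hd
  let Ftot : Finset R := Finset.univ.biUnion F
  let R' : Subalgebra k R := rc ρ C ⊔ Algebra.adjoin k (Ftot : Set R)
  have hFt : ↑Ftot ⊆ (rc ρ (C ⊔ D₀) : Set R) := by
    intro r hr
    obtain ⟨d, -, hd⟩ := Finset.mem_biUnion.1 (Finset.mem_coe.1 hr)
    exact hF d hd
  refine ⟨Ftot, hFt, ?_⟩
  let M : Subalgebra k (O ⊗[k] R) := (rngR R').map (theta ρ)
  have hM1 : ∀ b : R, (1 : O) ⊗ₜ[k] b ∈ M := fun b =>
    ⟨(1 : R) ⊗ₜ b, tmul_mem_range (one_mem _) b, by simp [theta_tmul]⟩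
  have hM : C ⊔ D₀ ≤ M.comap (Algebra.TensorProduct.includeLeft : O →ₐ[k] O ⊗[k] R) := by
    refine sup_le (fun c hc => ?_) ?_
    · obtain ⟨y, hy⟩ := hθ.2 (c ⊗ₜ[k] (1 : R))
      exact ⟨y, range_map_mono le_sup_left (mem_rngR_of_theta_mem ρ hco hθ hC (hy ▸ tmul_mem_range hc 1)), hy⟩
    · rw [← hgen, Algebra.adjoin_le_iff]
      intro d hd
      refine ⟨x ⟨d, hd⟩, range_map_mono ?_ (hxF ⟨d, hd⟩), hx ⟨d, hd⟩⟩
      exact (Algebra.adjoin_mono (Finset.coe_subset.2 (Finset.subset_biUnion_of_mem F (Finset.mem_univ _)))).trans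
        le_sup_right
  have hMr : rng (C ⊔ D₀) ≤ M := by
    rintro _ ⟨z, rfl⟩
    induction z using TensorProduct.induction_on with
    | zero => simp
    | tmul c b =>
      have h1 : ((c : O) ⊗ₜ[k] (1 : R)) * ((1 : O) ⊗ₜ[k] b) ∈ M := mul_mem (hM c.2) (hM1 b)
      simpa using h1
    | add a b ha hb => simp only [AlgHom.toRingHom_eq_coe, RingHom.coe_coe, map_add] at ha hb ⊢; exact add_mem ha hb
  intro r hr
  obtain ⟨y, hy, hy'⟩ := hMr (theta_mem ρ (tmul_mem_range hr (1 : R)))
  refine mem_of_tmul_one (R := R) ?_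
  rw [← show y = r ⊗ₜ[k] (1 : R) from hθ.1 hy']
  exact hy

include hco hθ in
/-- A point of a quotient torsor lifts to a bigger one. -/
theorem exists_extend_step [IsAlgClosed k] [Nontrivial R] {C D₀ : Subalgebra k O} (hC : IsHopfSub C)
    (hD : IsHopfSub D₀) (hfg : D₀.FG) (χ : rc ρ C →ₐ[k] k) :
    ∃ χ' : rc ρ (C ⊔ D₀) →ₐ[k] k, ∀ (r : R) (hr : r ∈ rc ρ C),
      χ' ⟨r, rc_mono ρ le_sup_left hr⟩ = χ ⟨r, hr⟩ := by
  classical
  let I : Ideal R := Ideal.span ((fun r : rc ρ C => ((r - algebraMap k _ (χ r) : rc ρ C) : R)) '' Set.univ)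
  have hI : I ≠ ⊤ := by
    intro htop
    letI := H20FF.subHopf hC
    haveI : Module.FaithfullyFlat C O := H20FF.faithfullyFlat_subalgebra hC
    -- the point of the quotient group over a residue field of `R`
    obtain ⟨M, hM⟩ := Ideal.exists_maximal R
    let κ := R ⧸ M
    haveI : Nontrivial κ := Ideal.Quotient.nontrivial_iff.2 hM.ne_top
    let e : rc ρ C ⊗[k] R →ₐ[k] O ⊗[k] R :=
      (theta ρ).comp (Algebra.TensorProduct.map (rc ρ C).val (AlgHom.id k R))
    have he : Function.Injective e := hθ.1.comp (by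
      show Function.Injective ((rc ρ C).val.toLinearMap.rTensor R)
      exact Module.Flat.rTensor_preserves_injective_linearMap _ Subtype.val_injective)
    let ω : rc ρ C ⊗[k] R →ₐ[k] κ :=
      Algebra.TensorProduct.productMap ((Algebra.ofId k κ).comp χ) (Ideal.Quotient.mkₐ k M)
    have hCe : ∀ c : C, ∃ z, e z = (c : O) ⊗ₜ[k] (1 : R) := fun c => by
      obtain ⟨y, hy⟩ := hθ.2 ((c : O) ⊗ₜ[k] (1 : R))
      obtain ⟨z, hz⟩ := mem_rngR_of_theta_mem ρ hco hθ hC (hy ▸ tmul_mem_range c.2 1)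
      exact ⟨z, (congrArg (theta ρ) hz).trans hy⟩
    let ee : rc ρ C ⊗[k] R ≃ₐ[k] e.range := AlgEquiv.ofInjective e he
    let γ : C →ₐ[k] κ := (ω.comp ee.symm.toAlgHom).comp
      (((Algebra.TensorProduct.includeLeft : O →ₐ[k] O ⊗[k] R).comp C.val).codRestrict e.range fun c => hCe c)
    letI : Algebra C κ := γ.toRingHom.toAlgebra
    haveI : IsScalarTower k C κ := IsScalarTower.of_algebraMap_eq fun a => (γ.commutes a).symm
    haveI : Nontrivial (O ⊗[C] κ) := inferInstanceAs (Nontrivial (O ⊗[C] κ))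
    let v : O ⊗[k] R →ₐ[k] O ⊗[C] κ :=
      Algebra.TensorProduct.productMap (Algebra.TensorProduct.includeLeft)
        (((Algebra.TensorProduct.includeRight : κ →ₐ[C] O ⊗[C] κ).restrictScalars k).comp (Ideal.Quotient.mkₐ k M))
    have hv : ∀ z, v (e z) = (1 : O) ⊗ₜ[C] ω z := by
      have hC' : ∀ w ∈ rng C, ∀ hw : w ∈ e.range, v w = (1 : O) ⊗ₜ[C] ω (ee.symm ⟨w, hw⟩) := by
        rintro _ ⟨z, rfl⟩
        induction z using TensorProduct.induction_on with
        | zero =>
          intro hw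
          have : (⟨_, hw⟩ : e.range) = 0 := Subtype.ext (by simp)
          rw [this]
          simp
        | tmul c b =>
          intro hw
          have hb : (1 : O) ⊗ₜ[k] b ∈ e.range := ⟨1 ⊗ₜ b, by simp [e, theta_tmul]⟩
          have : (⟨_, hw⟩ : e.range) = ⟨_, hCe c⟩ * ⟨_, hb⟩ :=
            Subtype.ext (by simp)
          rw [this, map_mul, map_mul]
          have hbe : ee.symm ⟨_, hb⟩ = 1 ⊗ₜ b :=
            ee.symm_apply_eq.2 (Subtype.ext (by simp [ee, e, theta_tmul]))
          rw [hbe]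
          simp only [AlgHom.toRingHom_eq_coe, RingHom.coe_coe, Algebra.TensorProduct.map_tmul, v, ω,
            Algebra.TensorProduct.productMap_apply_tmul, map_one, one_mul]
          show ((c : O) ⊗ₜ[C] (1 : κ)) * ((1 : O) ⊗ₜ[C] Ideal.Quotient.mkₐ k M b) = (1 : O) ⊗ₜ[C] (γ c * _)
          rw [Algebra.TensorProduct.tmul_mul_tmul, one_mul, mul_one,
            show (c : O) = c • (1 : O) from (mul_one _).symm, smul_tmul]
          rfl
        | add a b ha hb =>
          intro hw
          have hmem : ∀ y : C ⊗[k] R, Algebra.TensorProduct.map C.val (AlgHom.id k R) y ∈ e.range := by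
            intro y
            induction y using TensorProduct.induction_on with
            | zero => simp
            | tmul c b' =>
              have : (c : O) ⊗ₜ[k] b' = ((c : O) ⊗ₜ[k] (1 : R)) * ((1 : O) ⊗ₜ[k] b') := by simp
              rw [Algebra.TensorProduct.map_tmul, AlgHom.id_apply, Subalgebra.coe_val, this]
              exact mul_mem (hCe c) ⟨1 ⊗ₜ b', by simp [e, theta_tmul]⟩
            | add y y' hy hy' => rw [map_add]; exact add_mem hy hy'
          have : (⟨_, hw⟩ : e.range) = ⟨_, hmem a⟩ + ⟨_, hmem b⟩ := Subtype.ext (by simp)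
          rw [this]
          simp only [AlgHom.toRingHom_eq_coe, RingHom.coe_coe, map_add, tmul_add] at ha hb ⊢
          rw [ha (hmem a), hb (hmem b)]
      intro z
      have h' := hC' (e z) (theta_mem ρ ⟨z, rfl⟩) ⟨z, rfl⟩
      rw [h']
      congr 2
      exact ee.symm_apply_apply z
    have hker : I ≤ RingHom.ker (v.comp ρ) := by
      refine Ideal.span_le.2 ?_
      rintro _ ⟨r, -, rfl⟩
      show v (ρ _) = 0
      have := hv ((r - algebraMap k _ (χ r)) ⊗ₜ 1)
      rw [show ω ((r - algebraMap k _ (χ r)) ⊗ₜ 1) = 0 by simp [ω], tmul_zero] at this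
      rw [← this]
      simp [e, theta_tmul, ← Algebra.TensorProduct.one_def]
    exact RingHom.ker_ne_top (v.comp ρ) (top_le_iff.1 (htop ▸ hker))
  obtain ⟨F, hF, hle⟩ := exists_finset_rc_le ρ hco hθ hC hD hfg
  let π : R →ₐ[k] R ⧸ I := Ideal.Quotient.mkₐ k I
  haveI : Nontrivial (R ⧸ I) := Ideal.Quotient.nontrivial_iff.2 hI
  let B : Subalgebra k (R ⧸ I) := (Algebra.adjoin k (F : Set R)).map π
  haveI : Algebra.FiniteType k B := (Subalgebra.fg_iff_finiteType B).1 (Subalgebra.FG.map _ ⟨F, rfl⟩)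
  have hπC : ∀ (r : R) (hr : r ∈ rc ρ C), π r = algebraMap k (R ⧸ I) (χ ⟨r, hr⟩) := by
    intro r hr
    have h0 : π ((⟨r, hr⟩ - algebraMap k _ (χ ⟨r, hr⟩) : rc ρ C) : R) = 0 :=
      Ideal.Quotient.eq_zero_iff_mem.2 (Ideal.subset_span ⟨⟨r, hr⟩, trivial, rfl⟩)
    rw [Subalgebra.coe_sub, map_sub, sub_eq_zero] at h0
    exact h0.trans (π.commutes _)
  have hB : rc ρ (C ⊔ D₀) ≤ B.comap π := by
    refine hle.trans (sup_le (fun r hr => ?_) fun r hr => ⟨r, hr, rfl⟩)
    show π r ∈ B
    rw [hπC r hr]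
    exact B.algebraMap_mem _
  haveI : Nontrivial B := ⟨0, 1, fun h => zero_ne_one (congrArg Subtype.val h)⟩
  obtain ⟨y, -⟩ := H20Comod.exists_point_le_ker (k := k) (R := B) (J := ⊥) bot_ne_top
  refine ⟨y.comp ((π.comp (rc ρ (C ⊔ D₀)).val).codRestrict B fun r => hB r.2), fun r hr => ?_⟩
  have h1 : (π.comp (rc ρ (C ⊔ D₀)).val).codRestrict B (fun r => hB r.2) ⟨r, rc_mono ρ le_sup_left hr⟩ =
      algebraMap k B (χ ⟨r, hr⟩) := Subtype.ext (hπC r hr)
  exact (congrArg y h1).trans ((y.commutes _).trans rfl)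

include hco hθ in
/-- Over an algebraically closed field a torsor under an affine group has a point. -/
theorem exists_point [IsAlgClosed k] [Nontrivial R] : Nonempty (R →ₐ[k] k) := by
  classical
  let fstH : R × k →ₐ[k] R := AlgHom.fst k R k
  let 𝒮 : Set (Subalgebra k (R × k)) :=
    {S | Set.InjOn Prod.fst (S : Set (R × k)) ∧ ∃ C : Subalgebra k O, IsHopfSub C ∧ S.map fstH = rc ρ C}
  have hbot : IsHopfSub (⊥ : Subalgebra k O) := by
    rw [← Algebra.adjoin_empty]
    exact H19Grp.PointLift.isHopfSub_adjoin _ (by simp) (by simp)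
  have h0 : (⊥ : Subalgebra k (R × k)) ∈ 𝒮 := by
    refine ⟨?_, ⊥, hbot, by rw [rc_bot ρ hθ, Algebra.map_bot]⟩
    intro a ha b hb hab
    obtain ⟨x, rfl⟩ := Algebra.mem_bot.1 ha
    obtain ⟨y, rfl⟩ := Algebra.mem_bot.1 hb
    rw [show x = y from (algebraMap k R).injective hab]
  obtain ⟨S, -, hmax⟩ : ∃ S, ⊥ ≤ S ∧ Maximal (· ∈ 𝒮) S := by
    refine zorn_le_nonempty₀ 𝒮 (fun c hc hchain y hy => ⟨sSup c, ?_, fun z hz => le_sSup hz⟩) ⊥ h0
    haveI : Nonempty c := ⟨⟨y, hy⟩⟩
    have hdir : DirectedOn (· ≤ ·) c := hchain.directedOn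
    refine ⟨?_, ?_⟩
    · intro a ha b hb hab
      rw [sSup_eq_iSup', Subalgebra.coe_iSup_of_directed (hdir.directed_val)] at ha hb
      obtain ⟨⟨Sa, hSa⟩, ha⟩ := Set.mem_iUnion.mp ha
      obtain ⟨⟨Sb, hSb⟩, hb⟩ := Set.mem_iUnion.mp hb
      obtain ⟨T, hT, h1, h2⟩ := hdir Sa hSa Sb hSb
      exact (hc hT).1 (h1 ha) (h2 hb) hab
    · choose C hC hCS using fun i : c => (hc i.2).2
      refine ⟨⨆ i, C i, H19Grp.PointLift.isHopfSub_iSup C hC, ?_⟩
      rw [sSup_eq_iSup', (Subalgebra.gc_map_comap _).l_iSup]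
      simp only [hCS]
      refine le_antisymm (iSup_le fun i => rc_mono ρ (le_iSup C i)) fun r hr => ?_
      have hCdir : Directed (· ≤ ·) C := fun i i' => by
        obtain ⟨T, hT, h1, h2⟩ := hdir i.1 i.2 i'.1 i'.2
        refine ⟨⟨T, hT⟩, le_of_rc_le ρ hco hθ (hC i) ?_, le_of_rc_le ρ hco hθ (hC i') ?_⟩
        · rw [← hCS, ← hCS]
          exact fun _ ⟨z, hz, e⟩ => ⟨z, h1 hz, e⟩
        · rw [← hCS, ← hCS]
          exact fun _ ⟨z, hz, e⟩ => ⟨z, h2 hz, e⟩
      have hin : ∀ z : (⨆ i, C i : Subalgebra k O) ⊗[k] R,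
          ∃ i, Algebra.TensorProduct.map (⨆ i, C i : Subalgebra k O).val (AlgHom.id k R) z ∈ rng (C i) := by
        intro z
        induction z using TensorProduct.induction_on with
        | zero => exact ⟨Classical.arbitrary _, by simp⟩
        | tmul a b =>
          have ha := a.2
          rw [← SetLike.mem_coe, Subalgebra.coe_iSup_of_directed hCdir] at ha
          obtain ⟨i, hi⟩ := Set.mem_iUnion.1 ha
          exact ⟨i, tmul_mem_range hi b⟩
        | add a b ha hb =>
          obtain ⟨i, hi⟩ := ha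
          obtain ⟨j, hj⟩ := hb
          obtain ⟨l, hil, hjl⟩ := hCdir i j
          exact ⟨l, by rw [map_add]; exact add_mem (range_map_mono hil hi) (range_map_mono hjl hj)⟩
      obtain ⟨z, hz⟩ := hr
      obtain ⟨i, hi⟩ := hin z
      exact le_iSup (fun i => rc ρ (C i)) i (show ρ r ∈ rng (C i) from hz ▸ hi)
  obtain ⟨hinj, C, hC, hCS⟩ := hmax.1
  let eS : S ≃ₐ[k] rc ρ C :=
    AlgEquiv.ofBijective ((fstH.comp S.val).codRestrict (rc ρ C) fun z => hCS ▸ ⟨z, z.2, rfl⟩)
      ⟨fun z w h => Subtype.ext (hinj z.2 w.2 (congrArg Subtype.val h)), fun ⟨r, hr⟩ => by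
        rw [← hCS] at hr
        obtain ⟨z, hz, rfl⟩ := hr
        exact ⟨⟨z, hz⟩, rfl⟩⟩
  let χ : rc ρ C →ₐ[k] k := ((AlgHom.snd k R k).comp S.val).comp eS.symm.toAlgHom
  have htop : ∀ a : O, a ∈ C := by
    intro a
    obtain ⟨D, hD, hDfg, haD⟩ := H19Grp.PointLift.exists_fg_hopfSub (k := k) (Set.finite_singleton a)
    obtain ⟨χ', hχ'⟩ := exists_extend_step ρ hco hθ hC hD hDfg χ
    let S' : Subalgebra k (R × k) := ((rc ρ (C ⊔ D)).val.prod χ').range
    have hle : S ≤ S' := by
      intro z hz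
      have hm : z.1 ∈ rc ρ C := hCS ▸ ⟨z, hz, rfl⟩
      refine ⟨⟨z.1, rc_mono ρ le_sup_left hm⟩, Prod.ext rfl ?_⟩
      show χ' _ = z.2
      rw [hχ' z.1 hm]
      have : eS.symm ⟨z.1, hm⟩ = ⟨z, hz⟩ := eS.symm_apply_eq.mpr rfl
      show ((eS.symm ⟨z.1, hm⟩ : S) : R × k).2 = z.2
      rw [this]
    have hS' : S'.map fstH = rc ρ (C ⊔ D) := by
      refine le_antisymm ?_ fun x hx => ⟨_, ⟨⟨x, hx⟩, rfl⟩, rfl⟩
      rintro _ ⟨_, ⟨z, rfl⟩, rfl⟩
      exact z.2
    have hmem : S' ∈ 𝒮 := by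
      refine ⟨?_, _, H19Grp.PointLift.isHopfSub_sup hC hD, hS'⟩
      rintro _ ⟨z, rfl⟩ _ ⟨w, rfl⟩ h
      rw [show z = w from Subtype.ext h]
    have heq := hmax.2 hmem hle
    have hrle : rc ρ (C ⊔ D) ≤ rc ρ C := by
      rw [← hS', ← hCS]
      exact fun _ ⟨z, hz, e⟩ => ⟨z, heq hz, e⟩
    exact le_of_rc_le ρ hco hθ (H19Grp.PointLift.isHopfSub_sup hC hD) hrle (le_sup_right (a := C) (haD rfl))
  have hr : ∀ r : R, r ∈ rc ρ C := by
    intro r
    show ρ r ∈ rng C
    induction ρ r using TensorProduct.induction_on with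
    | zero => exact zero_mem _
    | tmul c b => exact tmul_mem_range (htop c) b
    | add a b ha hb => exact add_mem ha hb
  exact ⟨χ.comp ((AlgHom.id k R).codRestrict (rc ρ C) hr)⟩

end

end Groth.Agent.H02CA.TorsorPt
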