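import Groth.Agent.H02CA.TorsorPt.Core
import Groth.Agent.H02CA.PtGlue.Pts
import Groth.Agent.H19Grp.AffinePoints
import Groth.Agent.H18Torsor.Basic

/-!
# Torsors under affine group schemes over an algebraically closed field have rational points
-/

set_option autoImplicit false
set_option maxHeartbeats 800000
set_option linter.style.haveILetI false
set_option backward.isDefEq.respectTransparency false
universe u

open CategoryTheory CategoryTheory.Limits MonoidalCategory CartesianMonoidalCategory MonObj AlgebraicGeometry WithConv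
open scoped TensorProduct
open Groth.Agent.H02CA.PtGlue

namespace Groth.Agent.H02CA.TorsorPt

section Scheme

variable {k : Type u} [Field k] {G P : Over (Spec (CommRingCat.of k))} [GrpObj G] (a : AlgGrp.Action G P)
  {O : Type u} [CommRing O] [HopfAlgebra k O] (θ : sp k O ≅ G) {R : Type u} [CommRing R] [Algebra k R]
  (ψ : sp k R ≅ P)
  (hmul : ∀ (T : Type u) [CommRing T] [Algebra k T] (f g : O →ₐ[k] T),
    pt θ (ofConv (toConv f * toConv g)) = pt θ f * pt θ g)

/-- The coaction on the coordinate ring. -/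
noncomputable def rho : R →ₐ[k] O ⊗[k] R :=
  coord ψ (lift (pt θ Algebra.TensorProduct.includeLeft) (pt ψ Algebra.TensorProduct.includeRight) ≫ a.act)

theorem lift_act_pt {T : Type u} [CommRing T] [Algebra k T] (g : O →ₐ[k] T) (x : R →ₐ[k] T) :
    lift (pt θ g) (pt ψ x) ≫ a.act = pt ψ ((Algebra.TensorProduct.productMap g x).comp (rho a θ ψ)) := by
  rw [← m_pt, rho, pt_coord, comp_lift_assoc, m_pt, m_pt, Algebra.TensorProduct.productMap_left,
    Algebra.TensorProduct.productMap_right]

include hmul in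
theorem rho_coassoc (r : R) :
    Algebra.TensorProduct.map (AlgHom.id k O) (rho a θ ψ) (rho a θ ψ r) =
      Algebra.TensorProduct.assoc k k k O O R
        (Algebra.TensorProduct.map (Bialgebra.comulAlgHom k O) (AlgHom.id k R) (rho a θ ψ r)) := by
  let g : O →ₐ[k] O ⊗[k] (O ⊗[k] R) := Algebra.TensorProduct.includeLeft
  let h : O →ₐ[k] O ⊗[k] (O ⊗[k] R) := Algebra.TensorProduct.includeRight.comp Algebra.TensorProduct.includeLeft
  let x : R →ₐ[k] O ⊗[k] (O ⊗[k] R) := Algebra.TensorProduct.includeRight.comp Algebra.TensorProduct.includeRight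
  have hact : lift (pt θ g * pt θ h) (pt ψ x) ≫ a.act = lift (pt θ g) (lift (pt θ h) (pt ψ x) ≫ a.act) ≫ a.act := by
    have h1 := congrArg (fun f => lift (lift (pt θ g) (pt θ h)) (pt ψ x) ≫ f) a.mul_act
    simp only [lift_whiskerRight_assoc, lift_lift_associator_hom_assoc, lift_whiskerLeft_assoc] at h1
    exact h1
  rw [← hmul, lift_act_pt, lift_act_pt, lift_act_pt] at hact
  have h2 := (pt_bijective ψ).1 hact
  have e1 : Algebra.TensorProduct.productMap (ofConv (toConv g * toConv h)) x =
      (Algebra.TensorProduct.assoc k k k O O R).toAlgHom.comp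
        (Algebra.TensorProduct.map (Bialgebra.comulAlgHom k O) (AlgHom.id k R)) := by
    apply Algebra.TensorProduct.ext'
    intro c b
    rw [Algebra.TensorProduct.productMap_apply_tmul]
    simp only [AlgHom.comp_apply, Algebra.TensorProduct.map_tmul, AlgHom.id_apply, Bialgebra.comulAlgHom_apply]
    rw [show (ofConv (toConv g * toConv h)) c =
      Algebra.TensorProduct.lmul' k (Algebra.TensorProduct.map g h (CoalgebraStruct.comul (R := k) c)) from rfl]
    induction CoalgebraStruct.comul (R := k) (A := O) c using TensorProduct.induction_on with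
    | zero => simp
    | add y z hy hz => simp only [TensorProduct.add_tmul, map_add, add_mul, hy, hz]
    | tmul y z => simp [g, h, x]
  have e2 : Algebra.TensorProduct.productMap g
      ((Algebra.TensorProduct.productMap h x).comp (rho a θ ψ)) =
      Algebra.TensorProduct.map (AlgHom.id k O) (rho a θ ψ) := by
    apply Algebra.TensorProduct.ext'
    intro c b
    rw [Algebra.TensorProduct.productMap_apply_tmul, AlgHom.comp_apply, Algebra.TensorProduct.map_tmul,
      AlgHom.id_apply]
    induction rho a θ ψ b using TensorProduct.induction_on with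
    | zero => simp
    | add y z hy hz => simp only [map_add, mul_add, TensorProduct.tmul_add, hy, hz]
    | tmul y z => simp [g, h, x]
  rw [e1, e2] at h2
  exact (congr($h2 r)).symm

theorem theta_bijective (hps : NonAbH1.IsPseudoTorsorSch a) : Function.Bijective (theta (rho a θ ψ)) := by
  haveI : IsIso (lift a.act (snd G P)) := hps
  let i : sp k O ⊗ sp k R ⟶ G ⊗ P := θ.hom ⊗ₘ ψ.hom
  let j : sp k R ⊗ sp k R ⟶ P ⊗ P := ψ.hom ⊗ₘ ψ.hom
  have h : m (theta (rho a θ ψ)) ≫ prodHom k R R ≫ j = prodHom k O R ≫ i ≫ lift a.act (snd G P) := by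
    have hi : prodHom k O R ≫ i =
        lift (pt θ Algebra.TensorProduct.includeLeft) (pt ψ Algebra.TensorProduct.includeRight) := by
      simp [i, prodHom, pt]
    have hj : prodHom k R R ≫ j =
        lift (pt ψ Algebra.TensorProduct.includeLeft) (pt ψ Algebra.TensorProduct.includeRight) := by
      simp [j, prodHom, pt]
    rw [hj, reassoc_of% hi, comp_lift, comp_lift, lift_act_pt, lift_snd, m_pt, m_pt]
    congr 2
    · apply AlgHom.ext
      intro r
      show theta (rho a θ ψ) (r ⊗ₜ 1) = Algebra.TensorProduct.productMap _ _ (rho a θ ψ r)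
      rw [theta_tmul, ← Algebra.TensorProduct.one_def, _root_.mul_one]
      induction rho a θ ψ r using TensorProduct.induction_on with
      | zero => simp
      | add y z hy hz => rw [map_add, ← hy, ← hz]
      | tmul y z => simp
    · apply AlgHom.ext
      intro r
      show theta (rho a θ ψ) (1 ⊗ₜ r) = (1 : O) ⊗ₜ[k] r
      simp [theta_tmul]
  haveI : IsIso j := inferInstance
  haveI : IsIso i := inferInstance
  haveI : IsIso (m (theta (rho a θ ψ))) := by
    have : m (theta (rho a θ ψ)) = (prodHom k O R ≫ i ≫ lift a.act (snd G P)) ≫ inv (prodHom k R R ≫ j) := by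
      rw [IsIso.eq_comp_inv]
      exact h
    rw [this]
    infer_instance
  obtain ⟨σ, hσ⟩ := m_surjective (inv (m (theta (rho a θ ψ))))
  have h1 : σ.comp (theta (rho a θ ψ)) = AlgHom.id k _ := m_injective (by
    rw [m_comp, hσ, IsIso.inv_hom_id, m_id])
  have h2 : (theta (rho a θ ψ)).comp σ = AlgHom.id k _ := m_injective (by
    rw [m_comp, hσ, IsIso.hom_inv_id, m_id])
  exact ⟨Function.LeftInverse.injective (g := σ) fun z => congr($h1 z),
    Function.RightInverse.surjective (g := σ) fun z => congr($h2 z)⟩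

include a θ ψ hmul in
theorem exists_section [IsAlgClosed k] [Nontrivial R] (hps : NonAbH1.IsPseudoTorsorSch a) :
    Nonempty (𝟙_ (Over (Spec (CommRingCat.of k))) ⟶ P) := by
  obtain ⟨f⟩ := exists_point (rho a θ ψ) (rho_coassoc a θ ψ hmul) (theta_bijective a θ ψ hps)
  refine ⟨(Over.homMk (𝟙 (Spec (CommRingCat.of k))) ?_ : 𝟙_ (Over (Spec (CommRingCat.of k))) ⟶ sp k k) ≫ pt ψ f⟩
  show 𝟙 _ ≫ Spec.map (CommRingCat.ofHom (algebraMap k k)) = 𝟙 _
  rw [Category.id_comp]
  exact Spec.map_id _

end Scheme

/-- A torsor under an affine group scheme over an algebraically closed field has a point. -/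
theorem main {k : Type u} [Field k] [IsAlgClosed k] (G : Over (Spec (CommRingCat.of k))) [GrpObj G]
    [IsAffine G.left] (P : Over (Spec (CommRingCat.of k))) (a : AlgGrp.Action G P)
    (hP : NonAbH1.IsTorsorFor Scheme.fpqcPrecoverage a) :
    Nonempty (𝟙_ (Over (Spec (CommRingCat.of k))) ⟶ P) := by
  haveI : IsAffineHom G.hom := inferInstance
  haveI : IsAffineHom P.hom := H18Torsor.property_of_isTorsorFor a @IsAffineHom hP inferInstance
  haveI : IsAffine P.left := isAffine_of_isAffineHom P.hom
  haveI : Nonempty P.left := by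
    obtain ⟨W, hW, hsec⟩ := hP.2
    obtain ⟨T, c, hc, hT⟩ := H18Torsor.exists_refinement hW
      (isAffineOpen_top (Spec (CommRingCat.of k)))
    obtain ⟨s, -⟩ := hT P.left P.hom hsec
    obtain ⟨t, -⟩ := hc.1.1.surj ⟨IsLocalRing.closedPoint k, trivial⟩
    exact ⟨s t⟩
  letI : G.left.Over (Spec (CommRingCat.of k)) := ⟨G.hom⟩
  letI : P.left.Over (Spec (CommRingCat.of k)) := ⟨P.hom⟩
  letI : GrpObj (G.left.asOver (Spec (CommRingCat.of k))) := ‹GrpObj G›
  letI : HopfAlgebra k Γ(G.left, ⊤) := H19Grp.AffinePoints.hopfOf (CommRingCat.of k) G.left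
  letI : Algebra k Γ(P.left, ⊤) :=
    ((Spec.fullyFaithful.preimage <| P.left.isoSpec.inv ≫ P.hom).unop.hom : k →+* Γ(P.left, ⊤)).toAlgebra
  haveI : Nontrivial Γ(P.left, ⊤) := by
    obtain ⟨p⟩ := ‹Nonempty P.left›
    haveI : Nonempty (⊤ : P.left.Opens) := ⟨⟨p, trivial⟩⟩
    infer_instance
  let θ : sp k Γ(G.left, ⊤) ≅ G := Over.isoMk G.left.isoSpec.symm (by
    show G.left.isoSpec.inv ≫ (G.left ↘ Spec (CommRingCat.of k)) = Spec.map (CommRingCat.ofHom (algebraMap _ _))
    exact (Spec.fullyFaithful.map_preimage _).symm)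
  let ψ : sp k Γ(P.left, ⊤) ≅ P := Over.isoMk P.left.isoSpec.symm (by
    show P.left.isoSpec.inv ≫ (P.left ↘ Spec (CommRingCat.of k)) = Spec.map (CommRingCat.ofHom (algebraMap _ _))
    exact (Spec.fullyFaithful.map_preimage _).symm)
  refine exists_section a θ ψ (fun T _ _ f g => ?_) hP.1
  haveI : IsMonHom (G.left.isoSpec.hom.asOver (Spec (CommRingCat.of k))) :=
    H19Grp.AffinePoints.isMonHom_isoSpec (CommRingCat.of k) G.left
  let e : G.left.asOver (Spec (CommRingCat.of k)) ⟶ (Spec Γ(G.left, ⊤)).asOver (Spec (CommRingCat.of k)) :=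
    G.left.isoSpec.hom.asOver (Spec (CommRingCat.of k))
  haveI : IsMonHom e := ‹_›
  have he : ∀ f : Γ(G.left, ⊤) →ₐ[k] T, pt θ f ≫ e = Spec.mapMulEquiv (R := k) (toConv f) := by
    intro f
    apply Over.OverMorphism.ext
    show (Spec.map (CommRingCat.ofHom f.toRingHom) ≫ G.left.isoSpec.inv) ≫ G.left.isoSpec.hom = _
    rw [Category.assoc, Iso.inv_hom_id, Category.comp_id]
    rfl
  haveI : IsIso e.left := inferInstanceAs (IsIso G.left.isoSpec.hom)
  haveI : Mono e := (Over.forget _).mono_of_mono_map (inferInstanceAs (Mono e.left))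
  rw [← cancel_mono e, he, MonObj.mul_comp, toConv_ofConv, map_mul]
  congr 1
  · exact (he f).symm
  · exact (he g).symm

end Groth.Agent.H02CA.TorsorPt
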